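import Groth.Agent.Curves.K583.RankOne
import Groth.Agent.CurvesB.OmegaInv
import Groth.Agent.Nrm16.K136.UnivOmega
import Groth.Agent.OmegaSh.K583.DerFunct

/-!
# Differentials of smooth curves: the target of a universal derivation is invertible
-/

set_option autoImplicit false
universe u

open CategoryTheory CategoryTheory.Limits AlgebraicGeometry TopologicalSpace Opposite OmegaSh

namespace K583.CurveOm

open Groth.Agent.Sga67.Sec Groth.Agent.Sga67.LocBasis Groth.Agent.Krr.H496.GenLocus
open K583.RankOne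

theorem isInv_of_iso {X : Scheme.{u}} {L L' : X.Modules} (e : L ≅ L') (h : IsInv L) : IsInv L' := by
  intro x
  obtain ⟨U, σ, hx, hσ⟩ := h x
  exact ⟨U, _, hx, (appS_isGen_iff e σ).mpr hσ⟩

theorem isInv_iff_isInvertible {X : Scheme.{u}} {L : X.Modules} : IsInv L ↔ PicF.IsInvertible L := by
  rw [isInv_iff, Groth.Agent.Ega2.QCohLocal.isFinLocFreeOfRank_one_iff]

theorem isInv_omega {k : Type u} [Field k] {X : Scheme.{u}} (f : X ⟶ Spec (CommRingCat.of k))
    [Smooth f] [IsSeparated f] [IsIntegral X] (hdim : topologicalKrullDim X = 1)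
    {Ω : X.Modules} {d : Der f Ω} (hd : IsUniversal d) : IsInv Ω := by
  obtain ⟨e, -⟩ := K583.DerFunct.exists_iso_of_isUniversal (K136.UnivOmega.isUniversal_dOmega f) hd
  exact isInv_of_iso e (isInv_iff_isInvertible.mpr
    (Groth.Agent.CurvesB.OmegaInv.isInvertible_omega f hdim))

/-- A module without sections over the opens inside `U` restricts to zero on `U`. -/
theorem isZero_pullback_ι {X : Scheme.{u}} (U : X.Opens) (M : X.Modules)
    (h : ∀ V : X.Opens, V ≤ U → ∀ s : Sec M V, s = 0) :
    IsZero ((Scheme.Modules.pullback U.ι).obj M) := by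
  refine IsZero.of_iso ?_ ((Scheme.Modules.restrictFunctorIsoPullback U.ι).app M).symm
  rw [IsZero.iff_id_eq_zero]
  apply hom_ext
  intro V s
  have h1 : U.ι ''ᵁ V ≤ U := U.ι_image_le V
  exact h _ h1 s

end K583.CurveOm
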