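import Groth.Agent.OmegaSh.K583.AlgUniv
import Mathlib.RingTheory.Ideal.Quotient.Basic

/-!
# The different of a quadratic algebra `B = A ⊕ A w`, `w² ∈ A`, `2` a unit

If `e` generates the differentials of `A`, `e'` is a basis of the differentials of `B` and `c e = h e'`
for the natural map `c`, then `h` and `w` generate the same ideal of `B`.
-/

set_option autoImplicit false
universe u

namespace K583.DblAlg

open K583.AlgUniv

variable {k A B : Type u} [CommRing k] [CommRing A] [CommRing B] {φk : k →+* A} {φ : A →+* B}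
  {M' M : Type u} [AddCommGroup M'] [Module A M'] [AddCommGroup M] [Module B M]

theorem exists_der {w : B} (hw : Function.Bijective (fun p : A × A => φ p.1 + φ p.2 * w)) {a0 : A}
    (hww : w * w = φ a0) : ∃ D : B →+ (B ⧸ Ideal.span {w}), IsDer φ D ∧ D w = 1 := by
  let E : B → A × A := (Equiv.ofBijective _ hw).symm
  have hE : ∀ b, φ (E b).1 + φ (E b).2 * w = b := fun b => (Equiv.ofBijective _ hw).apply_symm_apply b
  have hE' : ∀ p : A × A, E (φ p.1 + φ p.2 * w) = p := fun p =>
    (Equiv.ofBijective _ hw).symm_apply_apply p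
  have hadd : ∀ b b', E (b + b') = E b + E b' := by
    intro b b'
    rw [← hE' (E b + E b')]
    congr 1
    conv_lhs => rw [← hE b, ← hE b']
    rw [Prod.fst_add, Prod.snd_add, map_add, map_add]
    ring
  have hmul : ∀ b b', E (b * b') = ((E b).1 * (E b').1 + (E b).2 * (E b').2 * a0,
      (E b).1 * (E b').2 + (E b).2 * (E b').1) := by
    intro b b'
    rw [← hE' ((E b).1 * (E b').1 + (E b).2 * (E b').2 * a0, (E b).1 * (E b').2 + (E b).2 * (E b').1)]
    congr 1
    conv_lhs => rw [← hE b, ← hE b']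
    simp only [map_add, map_mul, ← hww]
    ring
  have hq : Ideal.Quotient.mk (Ideal.span {w}) w = 0 :=
    Ideal.Quotient.eq_zero_iff_mem.mpr (Ideal.mem_span_singleton_self w)
  have hq' : ∀ b, Ideal.Quotient.mk (Ideal.span {w}) b = Ideal.Quotient.mk (Ideal.span {w}) (φ (E b).1) := by
    intro b
    conv_lhs => rw [← hE b]
    rw [map_add, map_mul, hq, mul_zero, add_zero]
  have h0 : E 0 = 0 := by
    have := hE' 0
    simpa using this
  refine ⟨{ toFun := fun b => Ideal.Quotient.mk (Ideal.span {w}) (φ (E b).2)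
            map_zero' := by rw [h0]; simp
            map_add' := fun b b' => by rw [hadd, Prod.snd_add, map_add, map_add] }, ⟨?_, ?_⟩, ?_⟩
  · intro b b'
    change Ideal.Quotient.mk (Ideal.span {w}) (φ (E (b * b')).2) =
      Ideal.Quotient.mk _ b * Ideal.Quotient.mk _ (φ (E b').2) +
        Ideal.Quotient.mk _ b' * Ideal.Quotient.mk _ (φ (E b).2)
    rw [hmul, hq' b, hq' b']
    simp only [map_add, map_mul]
    ring
  · intro a
    change Ideal.Quotient.mk (Ideal.span {w}) (φ (E (φ a)).2) = 0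
    have h1 : E (φ a) = (a, 0) := by
      have := hE' (a, 0)
      simpa using this
    rw [h1, map_zero, map_zero]
  · change Ideal.Quotient.mk (Ideal.span {w}) (φ (E w).2) = 1
    have h1 : E w = (0, 1) := by
      have := hE' (0, 1)
      simpa using this
    rw [h1, map_one, map_one]

theorem main {d : A →+ M'} (hd : IsAlgUniv φk d) {δ : B →+ M} (hδ : IsAlgUniv (φ.comp φk) δ)
    (c : M' →+ M) (hc : ∀ (a : A) (m : M'), c (a • m) = φ a • c m) (hcd : ∀ a, c (d a) = δ (φ a))
    {w : B} (hw : Function.Bijective (fun p : A × A => φ p.1 + φ p.2 * w)) {a0 : A}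
    (hww : w * w = φ a0) (h2 : IsUnit (2 : B)) {e : M'} (he : ∀ m : M', ∃ a : A, a • e = m)
    {e' : M} (he' : ∀ m : M, ∃ b : B, b • e' = m) (hinj : ∀ b b' : B, b • e' = b' • e' → b = b')
    {h : B} (hh : c e = h • e') : (∃ b, h = b * w) ∧ ∃ b, w = b * h := by
  constructor
  · obtain ⟨D, hD, hDw⟩ := exists_der hw hww
    have hD' : IsDer (φ.comp φk) D := ⟨hD.leibniz, fun x => hD.zero _⟩
    obtain ⟨g, hg, -⟩ := hδ.lift _ D hD'
    have h0 : ∀ m : M', g (c m) = 0 := by
      intro m
      have hm : m ∈ Submodule.span A (Set.range d) := by rw [hd.span_eq_top]; trivial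
      induction hm using Submodule.span_induction with
      | mem x hx =>
        obtain ⟨a, rfl⟩ := hx
        rw [hcd, hg, hD.zero]
      | zero => rw [map_zero, map_zero]
      | add x y _ _ hx hy => rw [map_add, map_add, hx, hy, add_zero]
      | smul a x _ hx => rw [hc, map_smul, hx, smul_zero]
    obtain ⟨b, hb⟩ := he' (δ w)
    have h1 : b • g e' = 1 := by rw [← map_smul, hb, hg, hDw]
    have h3 : h • g e' = 0 := by rw [← map_smul, ← hh, h0]
    have h4 : Ideal.Quotient.mk (Ideal.span {w}) h = 0 := by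
      have h5 : Ideal.Quotient.mk (Ideal.span {w}) h = h • (b • g e') := by
        rw [h1, Algebra.smul_def, mul_one]; rfl
      rw [h5, smul_comm, h3, smul_zero]
    obtain ⟨b', hb'⟩ := Ideal.mem_span_singleton'.mp (Ideal.Quotient.eq_zero_iff_mem.mp h4)
    exact ⟨b', hb'.symm⟩
  · -- `c m ∈ h M`
    have hcm : ∀ m : M', ∃ b : B, c m = (b * h) • e' := by
      intro m
      obtain ⟨a, rfl⟩ := he m
      exact ⟨φ a, by rw [hc, hh, mul_smul]⟩
    have hwd : ∃ b : B, w • δ w = (b * h) • e' := by
      obtain ⟨u, hu⟩ := h2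
      obtain ⟨b, hb⟩ := hcm (d a0)
      refine ⟨↑u⁻¹ * b, ?_⟩
      have h3 : δ (w * w) = (2 : B) • (w • δ w) := by rw [hδ.leibniz, two_smul]
      rw [hww, ← hcd, hb] at h3
      rw [mul_assoc, mul_smul, h3, ← hu, ← mul_smul, Units.inv_mul, one_smul]
    have hwb : ∀ b : B, ∃ b' : B, w • δ b = (b' * h) • e' := by
      intro b
      obtain ⟨⟨α, β⟩, rfl⟩ := hw.2 b
      obtain ⟨b1, h1⟩ := hcm (d α)
      obtain ⟨b2, h2⟩ := hcm (d β)
      obtain ⟨b3, h3⟩ := hwd
      refine ⟨w * b1 + φ β * b3 + w * w * b2, ?_⟩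
      change w • δ (φ α + φ β * w) = _
      rw [map_add, hδ.leibniz, ← hcd, ← hcd, h1, h2, smul_add, smul_add, smul_comm w (φ β), h3]
      simp only [← mul_smul, ← add_smul]
      congr 1
      ring
    have hwm : ∀ m : M, ∃ b' : B, w • m = (b' * h) • e' := by
      intro m
      have hm : m ∈ Submodule.span B (Set.range δ) := by rw [hδ.span_eq_top]; trivial
      induction hm using Submodule.span_induction with
      | mem x hx =>
        obtain ⟨b, rfl⟩ := hx
        exact hwb b
      | zero => exact ⟨0, by rw [smul_zero, zero_mul, zero_smul]⟩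
      | add x y _ _ hx hy =>
        obtain ⟨b1, h1⟩ := hx
        obtain ⟨b2, h2⟩ := hy
        exact ⟨b1 + b2, by rw [smul_add, h1, h2, add_mul, add_smul]⟩
      | smul a x _ hx =>
        obtain ⟨b1, h1⟩ := hx
        exact ⟨a * b1, by rw [smul_comm, h1, ← mul_smul, mul_assoc]⟩
    obtain ⟨b, hb⟩ := hwm e'
    exact ⟨b, hinj _ _ hb⟩

end K583.DblAlg
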