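import Groth.Agent.Curves.K583.DblQ
import Groth.Agent.ASBun.K791.Tens
import Groth.Agent.Fga.PicMon
import Groth.Agent.Variety.K434.ZTwist
import Groth.Agent.S19899

/-!
# Differentials of double covers of smooth curves
-/

set_option autoImplicit false
universe u

open CategoryTheory CategoryTheory.Limits AlgebraicGeometry TopologicalSpace Opposite OmegaSh

namespace K583.DblMain

open Groth.Agent.Krr.H496.GenLocus K583.CurveOm K583.DblQ K980.CokerQ Groth.Agent.Fga.PicMon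

variable {k : Type u} [Field k] {X Y : Scheme.{u}} [IsIntegral X] [IsIntegral Y]
  {sX : X ⟶ Spec (CommRingCat.of k)} {sY : Y ⟶ Spec (CommRingCat.of k)}
  [IsProper sX] [Smooth sX] [IsProper sY] [Smooth sY]

omit [AlgebraicGeometry.IsIntegral Y] in
theorem isUnit_two (h2 : (2 : k) ≠ 0) (sY : Y ⟶ Spec (CommRingCat.of k)) : IsUnit (2 : Γ(Y, ⊤)) := by
  have h1 : IsUnit (2 : k) := isUnit_iff_ne_zero.mpr h2
  have h3 := h1.map ((Scheme.ΓSpecIso (CommRingCat.of k)).inv ≫ sY.appTop).hom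
  rwa [map_ofNat] at h3

omit [AlgebraicGeometry.IsIntegral X] [AlgebraicGeometry.IsIntegral Y] [IsProper sX] [Smooth sX] [IsProper sY] in
theorem lfp (f : X ⟶ Y) [IsFinite f] (_ : f ≫ sY = sX) : LocallyOfFinitePresentation f := by
  have h1 : IsLocallyNoetherian Y := LocallyOfFiniteType.isLocallyNoetherian sY
  exact LocallyOfFinitePresentation.iff_locallyOfFiniteType.2 inferInstance

theorem omega_iso_Q (h2 : (2 : k) ≠ 0) (hX : topologicalKrullDim X = 1) (hY : topologicalKrullDim Y = 1)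
    (f : X ⟶ Y) [IsFinite f] [Flat f] (hf : f ≫ sY = sX) (hrk : ∀ y : Y, f.finrank y = 2) :
    Nonempty ((Scheme.Modules.pullback f).obj (Omega.sheaf sY) ≅
      CohB1.tensorMod (Omega.sheaf sX) ((Scheme.Modules.pullback f).obj (Q f))) := by
  have : LocallyOfFinitePresentation f := lfp f hf
  obtain ⟨ν, hν⟩ := exists_nu f hrk (isUnit_two h2 sY)
  exact K583.DblOmega.nonempty_iso f hf (K136.UnivOmega.isUniversal_dOmega sY)
    (K136.UnivOmega.isUniversal_dOmega sX) (isInv_omega sY hY (K136.UnivOmega.isUniversal_dOmega sY))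
    (isInv_omega sX hX (K136.UnivOmega.isUniversal_dOmega sX)) (isUnit_two h2 sX) ν hν

/-- `f^* (Ω_Y ⊗ Δ) ≅ Ω_X` for an inverse `Δ` of the cokernel of `O_Y ⟶ f_* O_X`. -/
theorem pull_tensor_iso (h2 : (2 : k) ≠ 0) (hX : topologicalKrullDim X = 1) (hY : topologicalKrullDim Y = 1)
    (f : X ⟶ Y) [IsFinite f] [Flat f] (hf : f ≫ sY = sX) (hrk : ∀ y : Y, f.finrank y = 2)
    {Δ : Y.Modules} (hΔ : ClSub.IsInverseOf Δ (Q f)) :
    Nonempty ((Scheme.Modules.pullback f).obj (CohB1.tensorMod (Omega.sheaf sY) Δ) ≅ Omega.sheaf sX) := by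
  obtain ⟨e⟩ := omega_iso_Q (sX := sX) (sY := sY) h2 hX hY f hf hrk
  obtain ⟨e'⟩ := hΔ
  rw [← mc_eq_iff, mc_eq (Groth.Agent.ASBun.K791.Tens.pullTens f _ _), mc_tensor, mc_eq e, mc_tensor, mul_assoc]
  have h3 : mc ((Scheme.Modules.pullback f).obj (Q f)) * mc ((Scheme.Modules.pullback f).obj Δ) = 1 := by
    rw [mul_comm, ← mc_tensor, ← mc_eq (Groth.Agent.ASBun.K791.Tens.pullTens f _ _),
      mc_eq ((Scheme.Modules.pullback f).mapIso e'), mc_eq (Groth.Agent.ASBun.K791.Tens.pullUnit f), mc_one]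
  rw [h3, mul_one]

omit [AlgebraicGeometry.IsIntegral X] [AlgebraicGeometry.IsIntegral Y] [IsProper sX] [Smooth sX] [IsProper sY] in
theorem exists_inverse_Q (h2 : (2 : k) ≠ 0)
    (f : X ⟶ Y) [IsFinite f] [Flat f] (hf : f ≫ sY = sX) (hrk : ∀ y : Y, f.finrank y = 2) :
    ∃ Δ : Y.Modules, PicF.IsInvertible Δ ∧ ClSub.IsInverseOf Δ (Q f) := by
  have : LocallyOfFinitePresentation f := lfp (sY := sY) f hf
  have h1 : PicF.IsInvertible (Q f) := isInv_iff_isInvertible.mp (isInv_Q f hrk (isUnit_two h2 sY))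
  obtain ⟨Δ, hΔ⟩ := K434.ZTwist.exists_isInverseOf h1
  have h3 : ClSub.IsInverseOf Δ (Q f) := by
    obtain ⟨e⟩ := hΔ
    refine (mc_eq_iff _ _).mp ?_
    rw [mc_tensor, mul_comm, ← mc_tensor, mc_eq e]
  exact ⟨Δ, (K434.ZTwist.isInvertible_of_inverse h3).1, h3⟩

theorem exists_descent (h2 : (2 : k) ≠ 0) (hX : topologicalKrullDim X = 1) (hY : topologicalKrullDim Y = 1)
    (f : X ⟶ Y) [IsFinite f] [Flat f] (hf : f ≫ sY = sX) (hrk : ∀ y : Y, f.finrank y = 2) :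
    ∃ M : Y.Modules, PicF.IsInvertible M ∧
      Nonempty ((Scheme.Modules.pullback f).obj M ≅ Omega.sheaf sX) := by
  obtain ⟨Δ, hΔ, h3⟩ := exists_inverse_Q (sX := sX) (sY := sY) h2 f hf hrk
  have h4 : PicF.IsInvertible (Omega.sheaf sY) := isInv_iff_isInvertible.mp
    (isInv_omega sY hY (K136.UnivOmega.isUniversal_dOmega sY))
  exact ⟨_, Groth.Agent.Fdesc.LocGen.isInvertible_tensorMod h4 hΔ,
    pull_tensor_iso (sX := sX) (sY := sY) h2 hX hY f hf hrk h3⟩

theorem main [IsAlgClosed k] (h2 : (2 : k) ≠ 0) (hX : topologicalKrullDim X = 1) (hY : topologicalKrullDim Y = 1)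
    (f : X ⟶ Y) [IsFinite f] [Flat f] (hf : f ≫ sY = sX) (hrk : ∀ y : Y, f.finrank y = 2)
    (D : Y.Modules) (hD : Nonempty ((Scheme.Modules.pushforward f).obj (Coh.structureModule X) ≅
      Coh.structureModule Y ⊞ D)) :
    ∃ Δ : Y.Modules, PicF.IsInvertible Δ ∧ Nonempty (CohB1.tensorMod Δ D ≅ Coh.structureModule Y) ∧
      Nonempty ((Scheme.Modules.pullback f).obj (CohB1.tensorMod (Omega.sheaf sY) Δ) ≅ Omega.sheaf sX) := by
  obtain ⟨e⟩ := hD
  obtain ⟨Δ, hΔ, h3⟩ := exists_inverse_Q (sX := sX) (sY := sY) h2 f hf hrk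
  refine ⟨Δ, hΔ, ?_, pull_tensor_iso (sX := sX) (sY := sY) h2 hX hY f hf hrk h3⟩
  have hb := Groth.Agent.S19899.appTop_bijective sX
  have hfield : IsField Γ(Y, ⊤) :=
    Groth.Agent.CurvesC.ReducedConnField.isField_of_universallyClosed sY
  have hsurj : Function.Surjective f.appTop := by
    intro z
    obtain ⟨c, hc⟩ := hb.2 z
    refine ⟨sY.appTop ((Scheme.ΓSpecIso (CommRingCat.of k)).inv c), ?_⟩
    rw [← hc]
    subst hf
    rw [Scheme.Hom.comp_appTop]
    rfl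
  obtain ⟨e2⟩ := nonempty_iso_Q f hfield hsurj e
  obtain ⟨e3⟩ := h3
  refine (mc_eq_iff _ _).mp ?_
  rw [mc_tensor, ← mc_eq e2, ← mc_tensor, mc_eq e3]

end K583.DblMain
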