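import Groth.Agent.Curves.K583.DblAlg
import Groth.Agent.Curves.K583.CurveOm
import Groth.Agent.OmegaSh.K583.UnivAffine
import Groth.Agent.HypSq.K980.CokerQ
import Groth.Agent.S4436

/-!
# The differentials of a double cover

`f : X ⟶ Y` finite, locally `f_* O_X = O_Y ⊕ ν(N)` with `ν(n)² ∈ O_Y` for a generator `n` of the invertible
module `N`, and `2` invertible: then `f^* Ω_Y ≅ Ω_X ⊗ f^* N`.
-/

set_option autoImplicit false
universe u

open CategoryTheory CategoryTheory.Limits AlgebraicGeometry TopologicalSpace Opposite OmegaSh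
open scoped TensorProduct

namespace K583.DblOmega

open Groth.Agent.Sga67.Sec Groth.Agent.Sga67.LocBasis Groth.Agent.Krr.H496.GenLocus
open Groth.Agent.Krr.H487.LocBasisPull
open K583.RankOne K583.CurveOm K583.DerFunct

/-- The basis of all opens. -/
theorem isBasis_all (X : Scheme.{u}) : Opens.IsBasis (Set.range (fun U : X.Opens => U)) := by
  rw [Opens.isBasis_iff_nbhd]
  intro U x hx
  exact ⟨U, ⟨U, rfl⟩, hx, le_rfl⟩

/-- `m ⊗ n ↦ μ(n) m` for `μ : N ⟶ O_X`. -/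
theorem exists_smulHom {X : Scheme.{u}} (M N : X.Modules) (μ : N ⟶ Coh.structureModule X) :
    ∃ t : CohB1.tensorMod M N ⟶ M, ∀ (U : X.Opens) (m : Sec M U) (n : Sec N U),
      appS t U (tau M N U (m ⊗ₜ[Γ(X, U)] n)) = toO (appS μ U n) • m := by
  obtain ⟨t, ht⟩ := exists_tensor_hom (isBasis_all X) M N M
    (fun U => TensorProduct.lift (LinearMap.mk₂ Γ(X, U) (fun m n => toO (appS μ U n) • m)
      (fun m m' n => smul_add _ _ _)
      (fun c m n => by rw [smul_comm])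
      (fun m n n' => by rw [map_add, toO_add, add_smul])
      (fun c m n => by rw [map_smul, toO_smul, mul_smul])))
    (fun i j h m n => by
      rw [TensorProduct.lift.tmul, TensorProduct.lift.tmul, LinearMap.mk₂_apply, LinearMap.mk₂_apply,
        res_smul, appS_res, toO_res])
  refine ⟨t, fun U m n => ?_⟩
  rw [ht, TensorProduct.lift.tmul, LinearMap.mk₂_apply]

/-- An invertible module has a generator over the preimage of a neighbourhood, for finite morphisms. -/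
theorem exists_isGen_preimage {X Y : Scheme.{u}} (f : X ⟶ Y) [IsFinite f] {L : X.Modules}
    (hL : IsInv L) (y : Y) : ∃ (U : Y.Opens) (σ : Sec L (f ⁻¹ᵁ U)), y ∈ U ∧ IsGen σ := by
  obtain ⟨U, hU, h⟩ := Groth.Agent.S4436.result f 1 L (isInv_iff.mp hL) y
  obtain ⟨b, hb⟩ := nonempty_restrict_iso_iff.mp h
  refine ⟨U, b 0, hU, ?_⟩
  have : b = fun _ : Fin 1 => b 0 := by
    funext i
    rw [Subsingleton.elim i 0]
  unfold IsGen
  rw [← this]
  exact hb

theorem isGen_tau {X : Scheme.{u}} {L L' : X.Modules} {U : X.Opens} {l : Sec L U} {l' : Sec L' U}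
    (h : IsGen l) (h' : IsGen l') : IsGen (L := CohB1.tensorMod L L') (tau L L' U (l ⊗ₜ[Γ(X, U)] l')) := by
  unfold IsGen at *
  exact (isLocBasis_tensor h h').reindex (Equiv.prodUnique (Fin 1) (Fin 1)).symm

/-- Local data: `N` has a generator `n` over `W`, mapped by `ν` to `w` with `f_* O_X = O_Y ⊕ O_Y w`, `w² ∈ O_Y`. -/
def LocData {X Y : Scheme.{u}} (f : X ⟶ Y) {N : Y.Modules} (ν : N ⟶ K980.CokerQ.PO f) (W : Y.Opens) : Prop :=
  ∃ (n : Sec N W) (w : Γ(X, f ⁻¹ᵁ W)) (a0 : Γ(Y, W)), IsGen n ∧ appS ν W n = w ∧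
    (∀ (V : Y.Opens) (hV : V ≤ W), Function.Bijective (K980.DCover.pr f w V hV)) ∧ w * w = f.app W a0

theorem LocData.mono {X Y : Scheme.{u}} {f : X ⟶ Y} {N : Y.Modules} {ν : N ⟶ K980.CokerQ.PO f} {W : Y.Opens}
    (h : LocData f ν W) {V : Y.Opens} (hV : V ≤ W) : LocData f ν V := by
  obtain ⟨n, w, a0, hn, hw, hb, hww⟩ := h
  refine ⟨res N hV n, resO X (f.preimage_mono hV) w, resO Y hV a0, hn.res hV, ?_, ?_, ?_⟩
  · rw [appS_res, hw]; rfl
  · intro V' hV'
    have h1 := hb V' (hV'.trans hV)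
    have h2 : K980.DCover.pr f (resO X (f.preimage_mono hV) w) V' hV' = K980.DCover.pr f w V' (hV'.trans hV) := by
      funext p
      unfold K980.DCover.pr
      congr 2
      exact Groth.Agent.Fdesc.LocGen.ores_ores _ _ w
    rw [h2]
    exact h1
  · rw [← map_mul, hww]
    exact K980.DCover.ores_fa f hV a0

theorem nonempty_iso {X Y S : Scheme.{u}} [IsIntegral X] [IsAffine S] (f : X ⟶ Y) [IsFinite f]
    {sY : Y ⟶ S} {sX : X ⟶ S} (hs : f ≫ sY = sX)
    {ΩY : Y.Modules} {dY : Der sY ΩY} (hY : IsUniversal dY)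
    {ΩX : X.Modules} {dX : Der sX ΩX} (hX : IsUniversal dX) (iY : IsInv ΩY) (iX : IsInv ΩX)
    (h2 : IsUnit (2 : Γ(X, ⊤))) {N : Y.Modules} (ν : N ⟶ K980.CokerQ.PO f)
    (hN : ∀ y : Y, ∃ W : Y.Opens, y ∈ W ∧ LocData f ν W) :
    Nonempty ((Scheme.Modules.pullback f).obj ΩY ≅
      CohB1.tensorMod ΩX ((Scheme.Modules.pullback f).obj N)) := by
  have hs' : sX ≫ 𝟙 S = f ≫ sY := by rw [Category.comp_id, hs]
  let c := diffMap hs' hY dX
  have hc : IsDiffCompat f dY dX c := isDiffCompat_diffMap hs' hY dX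
  let μ : (Scheme.Modules.pullback f).obj N ⟶ Coh.structureModule X :=
    Groth.Agent.Krr.H487.LocBasisPull.adj f ν
  obtain ⟨t, ht⟩ := exists_smulHom ΩX ((Scheme.Modules.pullback f).obj N) μ
  -- the local computation
  have key : ∀ x : X, ∃ (U : X.Opens) (k : Sec ((Scheme.Modules.pullback f).obj ΩY) U)
      (l : Sec (CohB1.tensorMod ΩX ((Scheme.Modules.pullback f).obj N)) U) (m : Sec ΩX U) (h w : Γ(X, U)),
      x ∈ U ∧ IsGen k ∧ IsGen l ∧ IsGen m ∧ appS c U k = h • m ∧ appS t U l = w • m ∧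
      (∃ b, h = b * w) ∧ (∃ b, w = b * h) ∧ w ≠ 0 := by
    intro x
    obtain ⟨W1, e, hy1, he⟩ := iY (f x)
    obtain ⟨W2, e', hy2, he'⟩ := exists_isGen_preimage f iX (f x)
    obtain ⟨W3, hy3, hW3⟩ := hN (f x)
    obtain ⟨W, hW, hxW, hle⟩ := exists_isAffineOpen_mem_and_subset
      (show f x ∈ (W1 ⊓ W2 ⊓ W3 : Y.Opens) from ⟨⟨hy1, hy2⟩, hy3⟩)
    have hle1 : W ≤ W1 := hle.trans (inf_le_left.trans inf_le_left)
    have hle2 : W ≤ W2 := hle.trans (inf_le_left.trans inf_le_right)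
    have hle3 : W ≤ W3 := hle.trans inf_le_right
    obtain ⟨n, w, a0, hn, hw, hb, hww⟩ := hW3.mono hle3
    have he1 := he.res hle1
    have he1' := he'.res (f.preimage_mono hle2)
    have hU : IsAffineOpen (f ⁻¹ᵁ W) := hW.preimage f
    have hT : IsAffineOpen (⊤ : S.Opens) := isAffineOpen_top S
    have uY := K583.UnivAffine.isAlgUniv_app hY hW hT le_top
    have uX := K583.UnivAffine.isAlgUniv_app hX hU hT le_top
    have hcomp : (sX.appLE ⊤ (f ⁻¹ᵁ W) le_top).hom =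
        (f.app W).hom.comp (sY.appLE ⊤ W le_top).hom := by
      have h3 : sY.appLE ⊤ W le_top ≫ f.app W = sX.appLE ⊤ (f ⁻¹ᵁ W) le_top := by
        rw [Scheme.Hom.app_eq_appLE, Scheme.Hom.appLE_comp_appLE]
        simp only [hs]
      rw [← h3]; rfl
    rw [hcomp] at uX
    obtain ⟨h, hh⟩ := he1'.exists_smul (appS c (f ⁻¹ᵁ W) (pbS f ΩY (res ΩY hle1 e)))
    have hbij : Function.Bijective (fun p : Γ(Y, W) × Γ(Y, W) => (f.app W).hom p.1 + (f.app W).hom p.2 * w) := by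
      have h3 := hb W le_rfl
      have h4 : K980.DCover.pr f w W le_rfl = fun p => (f.app W).hom p.1 + (f.app W).hom p.2 * w := by
        funext p
        unfold K980.DCover.pr
        rw [Groth.Agent.Fdesc.LocGen.ores_refl]
        rfl
      rwa [h4] at h3
    have h2' : IsUnit (2 : Γ(X, f ⁻¹ᵁ W)) := by
      have := h2.map (resO X (le_top : f ⁻¹ᵁ W ≤ ⊤))
      rwa [map_ofNat] at this
    have hmain := K583.DblAlg.main (φ := (f.app W).hom) uY uX
      ((appS c (f ⁻¹ᵁ W)).toAddMonoidHom.comp (pbS f ΩY (U := W)))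
      (fun a m => (congrArg (appS c (f ⁻¹ᵁ W)) (pbS_smul f ΩY a m)).trans
        (map_smul (appS c (f ⁻¹ᵁ W)) _ _))
      (fun a => hc W a) hbij hww h2'
      (fun m => he1.exists_smul m) (fun m => he1'.exists_smul m)
      (fun b b' hbb => he1'.smul_injective hbb) hh.symm
    refine ⟨f ⁻¹ᵁ W, pbS f ΩY (res ΩY hle1 e), tau ΩX _ (f ⁻¹ᵁ W) (res ΩX (f.preimage_mono hle2) e' ⊗ₜ pbS f N n),
      res ΩX (f.preimage_mono hle2) e', h, w, hxW, isGen_pbS f he1, isGen_tau he1' (isGen_pbS f hn), he1',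
      hh.symm, ?_, hmain.1, hmain.2, ?_⟩
    · refine (ht _ _ _).trans ?_
      congr 1
      exact (adj_pbS f ν n).trans hw
    · intro h0
      have : Nonempty (f ⁻¹ᵁ W) := ⟨⟨x, hxW⟩⟩
      have h3 := @hbij.1 (0, 0) (0, 1) (by simp [h0])
      have h4 : (1 : Γ(Y, W)) = 0 := (congrArg Prod.snd h3).symm
      have h5 : (1 : Γ(X, f ⁻¹ᵁ W)) = 0 := by rw [← map_one (f.app W).hom, h4, map_zero]
      exact one_ne_zero h5
  have hcm : Mono c := mono_of_isGen c fun x => by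
    obtain ⟨U, k, l, m, h, w, hx, hk, hl, hm, e1, e2, -, ⟨b, hb⟩, hw⟩ := key x
    refine ⟨U, k, m, h, hx, hk, hm, e1, fun h0 => hw ?_⟩
    rw [hb, h0, mul_zero]
  have htm : Mono t := mono_of_isGen t fun x => by
    obtain ⟨U, k, l, m, h, w, hx, hk, hl, hm, e1, e2, -, -, hw⟩ := key x
    exact ⟨U, l, m, w, hx, hl, hm, e2, hw⟩
  refine nonempty_iso_of_image c t fun x => ?_
  obtain ⟨U, k, l, m, h, w, hx, hk, hl, hm, e1, e2, ⟨b, hb⟩, ⟨b', hb'⟩, hw⟩ := key x
  refine ⟨U, k, l, hx, hk, hl, ⟨b, ?_⟩, ⟨b', ?_⟩⟩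
  · rw [e1, e2, hb, mul_smul]
  · rw [e1, e2, ← mul_smul, ← hb']

end K583.DblOmega
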