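import Groth.Agent.Curves.K583.DblOmega
import Groth.Agent.DblCov.K976.Good

/-!
# The cokernel of `O_Y ⟶ f_* O_X` for a double cover, embedded in `f_* O_X` by `x ↦ 2x - tr x`
-/

set_option autoImplicit false
universe u

open CategoryTheory CategoryTheory.Limits AlgebraicGeometry TopologicalSpace Opposite
open scoped TensorProduct

namespace K583.DblQ

open Groth.Agent.Sga67.Sec Groth.Agent.Sga67.LocBasis Groth.Agent.Krr.H496.GenLocus
open Groth.Agent.Krr.H487.LocBasisPull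
open K583.RankOne K583.DblOmega K980.CokerQ K980.DCover K976.Good K976.Sig

section Alg

variable {R S : Type u} [CommRing R] [CommRing S] [Algebra R S]

theorem exists_coprime (b : Module.Basis (Fin 2) R S) :
    ∃ c0 c1 : R, b.repr 1 0 * c0 + b.repr 1 1 * c1 = 1 := by
  refine ⟨b.repr (b 0 * b 0) 0, b.repr (b 1 * b 0) 0, ?_⟩
  have h1 : b.repr 1 0 • (b 0 * b 0) + b.repr 1 1 • (b 1 * b 0) = b 0 := by
    have h2 : (b.repr 1 0 • b 0 + b.repr 1 1 • b 1) = (1 : S) := by
      have := b.sum_repr 1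
      rwa [Fin.sum_univ_two] at this
    calc _ = (b.repr 1 0 • b 0 + b.repr 1 1 • b 1) * b 0 := by
          rw [add_mul, smul_mul_assoc, smul_mul_assoc]
      _ = b 0 := by rw [h2, one_mul]
  have h3 := congrArg (fun z => b.repr z 0) h1
  simpa using h3

theorem bijective_of_isUnit (b : Module.Basis (Fin 2) R S) {i j : Fin 2} (hij : i ≠ j)
    (h : IsUnit (b.repr 1 i)) :
    Function.Bijective (fun p : R × R => algebraMap R S p.1 + algebraMap R S p.2 * b j) := by
  have hi : ∀ p : R × R, b.repr (algebraMap R S p.1 + algebraMap R S p.2 * b j) i = p.1 * b.repr 1 i := by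
    intro p
    rw [← Algebra.smul_def, Algebra.algebraMap_eq_smul_one, map_add, map_smul, map_smul]
    simp [hij]
  have hj : ∀ p : R × R, b.repr (algebraMap R S p.1 + algebraMap R S p.2 * b j) j =
      p.1 * b.repr 1 j + p.2 := by
    intro p
    rw [← Algebra.smul_def, Algebra.algebraMap_eq_smul_one, map_add, map_smul, map_smul]
    simp
  constructor
  · intro p q hpq
    have h1 := congrArg (fun z => b.repr z i) hpq
    simp only [hi] at h1
    have h2 := congrArg (fun z => b.repr z j) hpq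
    simp only [hj] at h2
    have h3 : p.1 = q.1 := h.mul_right_cancel h1
    rw [h3] at h2
    exact Prod.ext h3 (add_left_cancel h2)
  · intro s
    obtain ⟨u, hu⟩ := h
    refine ⟨(b.repr s i * ↑u⁻¹, b.repr s j - b.repr s i * ↑u⁻¹ * b.repr 1 j), ?_⟩
    apply b.ext_elem
    intro k
    have hk : k = i ∨ k = j := by omega
    rcases hk with rfl | rfl
    · refine (hi _).trans ?_
      change b.repr s k * ↑u⁻¹ * _ = _
      rw [← hu, Units.inv_mul_cancel_right]
    · refine (hj _).trans ?_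
      change b.repr s i * ↑u⁻¹ * b.repr 1 k + (b.repr s k - b.repr s i * ↑u⁻¹ * b.repr 1 k) = _
      ring

end Alg

theorem baseChange_repr {R S R' S' : CommRingCat.{u}} {φ : R ⟶ S} {φ' : R' ⟶ S'} {a : R ⟶ R'}
    {b : S ⟶ S'} (hp : IsPushout a φ φ' b) (β : letI := φ.hom.toAlgebra; Module.Basis (Fin 2) R S) :
    letI := φ'.hom.toAlgebra
    ∃ β' : Module.Basis (Fin 2) R' S', ∀ i,
      β'.repr 1 i = a (letI := φ.hom.toAlgebra; β.repr 1 i) := by
  algebraize [a.hom, φ.hom, φ'.hom, b.hom, φ'.hom.comp a.hom]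
  have h3 : IsScalarTower R S S' := by
    refine .of_algebraMap_eq fun r => ?_
    exact congrArg (fun f : R ⟶ S' => f.hom r) hp.w
  have hpush : Algebra.IsPushout R R' S S' := (CommRingCat.isPushout_iff_isPushout.1 hp)
  have hbc : IsBaseChange R' (IsScalarTower.toAlgHom R S S').toLinearMap := hpush.out
  refine ⟨(β.baseChange R').map hbc.equiv, fun i => ?_⟩
  rw [Module.Basis.map_repr]
  have h1 : hbc.equiv.symm (1 : S') = (1 : R') ⊗ₜ[R] (1 : S) := by
    rw [LinearEquiv.symm_apply_eq, IsBaseChange.equiv_tmul]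
    simp
  simp only [LinearEquiv.trans_apply, h1, Module.Basis.baseChange_repr_tmul]
  rw [Algebra.smul_def, mul_one]
  rfl

section Sheaf

variable {X Y : Scheme.{u}} (f : X ⟶ Y) [IsFinite f] [Flat f] [LocallyOfFinitePresentation f]

theorem exists_gen (hrk : ∀ y : Y, f.finrank y = 2) (y : Y) :
    ∃ (W : Y.Opens) (x : Γ(X, f ⁻¹ᵁ W)), y ∈ W ∧ Good f W ∧
      ∀ (V : Y.Opens) (hV : V ≤ W), Function.Bijective (pr f x V hV) := by
  obtain ⟨W0, hg, hy, -⟩ := exists_good f hrk ⊤ y trivial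
  have hg' := hg
  obtain ⟨hW0, t, ⟨β⟩, ht⟩ := hg'
  let _ : Algebra Γ(Y, W0) Γ(X, f ⁻¹ᵁ W0) := (f.app W0).hom.toAlgebra
  obtain ⟨c0, c1, hc⟩ := exists_coprime β
  have hex : ∃ i : Fin 2, y ∈ Y.basicOpen (β.repr 1 i) := by
    by_contra hcon
    push Not at hcon
    have h1 : ∀ i, ¬ IsUnit (Y.presheaf.germ W0 y hy (β.repr 1 i)) := fun i hu =>
      hcon i ((Scheme.mem_basicOpen Y _ y hy).mpr hu)
    have h2 := congrArg (Y.presheaf.germ W0 y hy).hom hc
    rw [map_add, map_mul, map_mul, map_one (Y.presheaf.germ W0 y hy).hom] at h2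
    have h3 : ∀ i, (Y.presheaf.germ W0 y hy).hom (β.repr 1 i) ∈
        IsLocalRing.maximalIdeal (Y.presheaf.stalk y) := fun i =>
      (IsLocalRing.mem_maximalIdeal _).mpr (h1 i)
    have h4 : (1 : Y.presheaf.stalk y) ∈ IsLocalRing.maximalIdeal (Y.presheaf.stalk y) := by
      rw [← h2]
      exact Ideal.add_mem _ (Ideal.mul_mem_right _ _ (h3 0)) (Ideal.mul_mem_right _ _ (h3 1))
    exact (Ideal.ne_top_iff_one _).mp (IsLocalRing.maximalIdeal.isMaximal _).ne_top h4
  obtain ⟨i, hi⟩ := hex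
  have hW : IsAffineOpen (Y.basicOpen (β.repr 1 i)) := hW0.basicOpen _
  have hle : Y.basicOpen (β.repr 1 i) ≤ W0 := Y.basicOpen_le _
  obtain ⟨β', hβ'⟩ := baseChange_repr (isPushout_app f hW0 hW hle) β
  let _ : Algebra Γ(Y, Y.basicOpen (β.repr 1 i)) Γ(X, f ⁻¹ᵁ (Y.basicOpen (β.repr 1 i))) :=
    (f.app (Y.basicOpen (β.repr 1 i))).hom.toAlgebra
  have hu : IsUnit (β'.repr 1 i) := by
    rw [hβ' i]
    exact RingedSpace.isUnit_res_basicOpen _ _
  have hij : i ≠ 1 - i := by omega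
  have hb := bijective_of_isUnit β' hij hu
  refine ⟨Y.basicOpen (β.repr 1 i), β' (1 - i), hi, hg.mono f hW hle, ?_⟩
  apply pr_bijective f hW (hW.preimage f)
  have h4 : pr f (β' (1 - i)) (Y.basicOpen (β.repr 1 i)) le_rfl = fun p =>
      algebraMap Γ(Y, Y.basicOpen (β.repr 1 i)) Γ(X, f ⁻¹ᵁ (Y.basicOpen (β.repr 1 i))) p.1 +
      algebraMap Γ(Y, Y.basicOpen (β.repr 1 i)) Γ(X, f ⁻¹ᵁ (Y.basicOpen (β.repr 1 i))) p.2 * β' (1 - i) := by
    funext p
    unfold pr
    rw [Groth.Agent.Fdesc.LocGen.ores_refl]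
    rfl
  rw [h4]
  exact hb

theorem goodBasis (hrk : ∀ y : Y, f.finrank y = 2) :
    Opens.IsBasis (Set.range (fun i : {p : Y.Opens // Good f p} => i.1)) := by
  rw [Opens.isBasis_iff_nbhd]
  intro U x hx
  obtain ⟨W, hW, hxW, hWU⟩ := exists_good f hrk U x hx
  exact ⟨W, ⟨⟨W, hW⟩, rfl⟩, hxW, hWU⟩

omit [Flat f] [LocallyOfFinitePresentation f] in
theorem res_t {W W' : Y.Opens} (hW : IsAffineOpen W) (hW' : IsAffineOpen W') (e : W' ≤ W)
    {t : Γ(X, f ⁻¹ᵁ W) → Γ(Y, W)} {t' : Γ(X, f ⁻¹ᵁ W') → Γ(Y, W')} (ht : IsTr2 (f.app W).hom t)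
    (ht' : IsTr2 (f.app W').hom t') (x : Γ(X, f ⁻¹ᵁ W)) :
    t' (resO X (f.preimage_mono e) x) = resO Y e (t x) := by
  obtain ⟨t'', ht'', h⟩ := ht.baseChange (isPushout_app f hW hW' e)
  rw [ht'.unique ht'']
  exact h x

/-- `x ↦ 2 x - tr x` -/
theorem exists_delta (hrk : ∀ y : Y, f.finrank y = 2) :
    ∃ δ : PO f ⟶ PO f, ∀ (W : Y.Opens) (t : Γ(X, f ⁻¹ᵁ W) → Γ(Y, W)), IsAffineOpen W →
      IsTr2 (f.app W).hom t → ∀ x : Γ(X, f ⁻¹ᵁ W),
        appS δ W (toPO f x) = toPO f (2 * x - f.app W (t x)) := by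
  obtain ⟨δ, hδ⟩ := exists_hom_of_basis' (goodBasis f hrk) (PO f) (PO f)
    (fun i => { toFun := fun s => toPO f (2 * (toPO f).symm s - f.app i.1 (i.2.2.choose ((toPO f).symm s)))
                map_add' := fun s s' => by
                  have h1 : (toPO f).symm (s + s') = (toPO f).symm s + (toPO f).symm s' := rfl
                  rw [h1]
                  refine Eq.trans ?_ (map_add (toPO f) _ _)
                  congr 1
                  rw [i.2.2.choose_spec.map_add, map_add]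
                  ring
                map_smul' := fun a s => by
                  have h1 : (toPO f).symm (a • s) = f.app i.1 a * (toPO f).symm s := rfl
                  rw [h1, RingHom.id_apply]
                  refine Eq.trans ?_ (toPO_mul f a _)
                  congr 1
                  have h2 : i.2.2.choose (f.app i.1 a * (toPO f).symm s) =
                      a * i.2.2.choose ((toPO f).symm s) := i.2.2.choose_spec.map_mul a _
                  rw [h2, map_mul]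
                  change _ = f.app i.1 a * _
                  ring })
    (fun i j h s => by
      change toPO f (2 * (toPO f).symm (res _ h s) - f.app j.1 (j.2.2.choose ((toPO f).symm (res _ h s)))) =
        res _ h (toPO f (2 * (toPO f).symm s - f.app i.1 (i.2.2.choose ((toPO f).symm s))))
      have h1 : (toPO f).symm (res (PO f) h s) = resO X (f.preimage_mono h) ((toPO f).symm s) := rfl
      rw [h1, res_t f i.2.1 j.2.1 h i.2.2.choose_spec j.2.2.choose_spec]
      have h2 : f.app j.1 (resO Y h (i.2.2.choose ((toPO f).symm s))) =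
        resO X (f.preimage_mono h) (f.app i.1 (i.2.2.choose ((toPO f).symm s))) :=
          (ores_fa f h _).symm
      rw [h2]
      have h3 : (2 : Γ(X, f ⁻¹ᵁ j.1)) = resO X (f.preimage_mono h) 2 := (map_ofNat _ 2).symm
      rw [h3, ← map_mul, ← map_sub]
      rfl)
  refine ⟨δ, fun W t hW ht x => ?_⟩
  have h1 := hδ ⟨W, hW, t, ht⟩ (toPO f x)
  refine h1.trans ?_
  change toPO f (2 * x - f.app W (_)) = _
  rw [(Exists.choose_spec (⟨t, ht⟩ : ∃ t : Γ(X, f ⁻¹ᵁ W) → Γ(Y, W), IsTr2 (f.app W).hom t)).unique ht]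
  rfl

/-- `δ` is `x ↦ 2 x - tr x`. -/
def IsDelta (δ : PO f ⟶ PO f) : Prop :=
  ∀ (W : Y.Opens) (t : Γ(X, f ⁻¹ᵁ W) → Γ(Y, W)), IsAffineOpen W →
      IsTr2 (f.app W).hom t → ∀ x : Γ(X, f ⁻¹ᵁ W),
        appS δ W (toPO f x) = toPO f (2 * x - f.app W (t x))

theorem unit_delta (hrk : ∀ y : Y, f.finrank y = 2) {δ : PO f ⟶ PO f} (hδ : IsDelta f δ) :
    ClSub.unitToPush f ≫ δ = 0 := by
  apply hom_ext
  intro V s
  apply eq_of_locally
  intro y hy
  obtain ⟨W, ⟨hW, t, ht⟩, hyW, hWV⟩ := exists_good f hrk V y hy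
  refine ⟨W, hWV, hyW, ?_⟩
  rw [← appS_res, appS_zero, map_zero, appS_comp]
  refine (hδ W t hW ht (f.app W (toO (res _ hWV s)))).trans ?_
  have h1 : t (f.app W (toO (res _ hWV s))) = 2 * toO (res _ hWV s) := ht.map_app _
  rw [h1, map_mul, map_ofNat, sub_self]
  rfl

theorem isGen_of_locGen {Z : Scheme.{u}} {L : Z.Modules} {U : Z.Opens} {e : Γ(L, U)}
    (he : Groth.Agent.Fdesc.LocGen.IsGen e) : IsGen (L := L) (U := U) e := by
  rw [isGen_iff]
  intro V h
  exact he V h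

theorem exists_nu (hrk : ∀ y : Y, f.finrank y = 2) (h2 : IsUnit (2 : Γ(Y, ⊤))) :
    ∃ ν : Q f ⟶ PO f, ∀ y : Y, ∃ W : Y.Opens, y ∈ W ∧ LocData f ν W := by
  obtain ⟨δ, hδ⟩ := exists_delta f hrk
  have h0 := unit_delta f hrk hδ
  choose U x hyU hU hx using exists_gen f hrk
  have hcov : ⨆ y, U y = ⊤ := by
    rw [eq_top_iff]
    intro y _
    exact Opens.mem_iSup.mpr ⟨y, hyU y⟩
  refine ⟨cokernel.desc _ δ h0, fun y => ⟨U y, hyU y, ?_⟩⟩
  obtain ⟨hW, t, ht⟩ := hU y
  have h2' : IsUnit (2 : Γ(Y, U y)) := by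
    have := h2.map (resO Y (le_top : U y ≤ ⊤))
    rwa [map_ofNat] at this
  refine ⟨q f U x y, 2 * x y - f.app (U y) (t (x y)), 2 * t (x y * x y) - t (x y) ^ 2,
    isGen_of_locGen (isGen_q f U hcov x hx y), ?_, ?_, ?_⟩
  · have h3 : π f ≫ cokernel.desc _ δ h0 = δ := cokernel.π_desc _ _ _
    have h4 : appS (cokernel.desc _ δ h0) (U y) (q f U x y) = appS (π f ≫ cokernel.desc _ δ h0) (U y) (toPO f (x y)) := rfl
    refine h4.trans ?_
    rw [h3]
    exact hδ (U y) t hW ht (x y)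
  · intro V hV
    have h3 := hx y V hV
    have h2V : IsUnit (2 : Γ(Y, V)) := by
      have := h2.map (resO Y (le_top : V ≤ ⊤))
      rwa [map_ofNat] at this
    obtain ⟨v, hv⟩ := h2V
    let E : Γ(Y, V) × Γ(Y, V) → Γ(Y, V) × Γ(Y, V) := fun p => (p.1 - p.2 * resO Y hV (t (x y)), 2 * p.2)
    have hE : Function.Bijective E := by
      refine Function.bijective_iff_has_inverse.mpr
        ⟨fun p => (p.1 + ↑v⁻¹ * p.2 * resO Y hV (t (x y)), ↑v⁻¹ * p.2), fun p => ?_, fun p => ?_⟩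
      · change (p.1 - p.2 * resO Y hV (t (x y)) + ↑v⁻¹ * (2 * p.2) * _, ↑v⁻¹ * (2 * p.2)) = p
        rw [← hv, Units.inv_mul_cancel_left, sub_add_cancel]
      · change (p.1 + ↑v⁻¹ * p.2 * resO Y hV (t (x y)) - ↑v⁻¹ * p.2 * _, 2 * (↑v⁻¹ * p.2)) = p
        rw [← hv, Units.mul_inv_cancel_left, add_sub_cancel_right]
    have h5 : pr f (2 * x y - f.app (U y) (t (x y))) V hV = pr f (x y) V hV ∘ E := by
      funext p
      unfold pr
      change fa f V p.1 + fa f V p.2 * Groth.Agent.Fdesc.LocGen.ores _ (2 * x y - fa f (U y) (t (x y))) =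
        fa f V (p.1 - p.2 * resO Y hV (t (x y))) + fa f V (2 * p.2) * Groth.Agent.Fdesc.LocGen.ores _ (x y)
      rw [map_sub, map_mul, map_ofNat, ores_fa f hV, map_sub, map_mul (fa f V), map_mul (fa f V), map_ofNat (fa f V)]
      change _ = fa f V p.1 - fa f V p.2 * fa f V (Groth.Agent.Fdesc.LocGen.ores hV (t (x y))) + _
      ring
    rw [h5]
    exact h3.comp hE
  · have h3 := ht.polar h2' (x y) (x y)
    have h4 : f.app (U y) (2 * t (x y * x y) - t (x y) ^ 2) =
      2 * f.app (U y) (t (x y * x y)) - f.app (U y) (t (x y)) ^ 2 := by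
      rw [map_sub, map_mul, map_ofNat, map_pow]
    rw [h4]
    change 2 * (x y * x y) = f.app (U y) (t (x y)) * x y + f.app (U y) (t (x y)) * x y -
      (f.app (U y)).hom (t (x y) * t (x y) - t (x y * x y)) at h3
    rw [map_sub, map_mul] at h3
    linear_combination 2 * h3

theorem isInv_Q (hrk : ∀ y : Y, f.finrank y = 2) (h2 : IsUnit (2 : Γ(Y, ⊤))) : IsInv (Q f) := by
  obtain ⟨ν, hν⟩ := exists_nu f hrk h2
  intro y
  obtain ⟨W, hy, n, w, a0, hn, -⟩ := hν y
  exact ⟨W, n, hy, hn⟩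

end Sheaf

section Summand

open Groth.Agent.Fdesc.LocGen (sec one ofFun hom_ext_sec isIso_iff_isGen isGen_one sec_comp)

/-- If global functions on `X` come from `Y`, a complement of `O_Y` in `f_* O_X` is the cokernel of the unit. -/
theorem nonempty_iso_Q {X Y : Scheme.{u}} (f : X ⟶ Y) (hfield : IsField Γ(Y, ⊤))
    (hsurj : Function.Surjective f.appTop) {D : Y.Modules}
    (e : PO f ≅ Coh.structureModule Y ⊞ D) : Nonempty (Q f ≅ D) := by
  let u := ClSub.unitToPush f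
  let a : Coh.structureModule Y ⟶ Coh.structureModule Y := u ≫ e.hom ≫ biprod.fst
  let b : Coh.structureModule Y ⟶ D := u ≫ e.hom ≫ biprod.snd
  -- global sections are multiples of `1`
  have hgen : ∀ z : Γ(PO f, ⊤), ∃ r : Γ(Y, ⊤), z = r • sec u ⊤ := by
    intro z
    obtain ⟨r, hr⟩ := hsurj ((toPO f).symm z)
    refine ⟨r, ?_⟩
    have h1 : r • sec u ⊤ = u.app ⊤ (ofFun r) := (Groth.Agent.Fdesc.LocGen.app_ofFun u r).symm
    rw [h1]
    exact ((toPO f).apply_symm_apply z).symm.trans (congrArg (toPO f) hr.symm)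
  obtain ⟨c, hc⟩ := (ofFun (X := Y) (U := ⊤)).surjective (sec a ⊤)
  have hc' : sec a ⊤ = c • one ⊤ := by rw [← hc, Groth.Agent.Fdesc.LocGen.ofFun_eq_smul]
  have happ : ∀ (M : Y.Modules) (g : PO f ⟶ M) (r : Γ(Y, ⊤)), g.app ⊤ (r • sec u ⊤) = r • sec (u ≫ g) ⊤ := by
    intro M g r
    rw [Scheme.Modules.Hom.app_smul]; rfl
  have hmul : ∀ r s : Γ(Y, ⊤), r • (ofFun s : Γ(Coh.structureModule Y, ⊤)) = ofFun (r * s) := fun r s => rfl
  have hb : sec b ⊤ = 0 := by
    obtain ⟨r, hr⟩ := hgen ((biprod.inr ≫ e.inv).app ⊤ (sec b ⊤))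
    have h1 := congrArg ((e.hom ≫ biprod.snd).app ⊤) hr
    have h2 := congrArg ((e.hom ≫ biprod.fst).app ⊤) hr
    rw [happ] at h1 h2
    have h3 : (e.hom ≫ biprod.snd).app ⊤ ((biprod.inr ≫ e.inv).app ⊤ (sec b ⊤)) = sec b ⊤ := by
      have h4 : (biprod.inr ≫ e.inv) ≫ e.hom ≫ biprod.snd = 𝟙 D := by simp
      exact congr(($h4).app ⊤ (sec b ⊤))
    have h5 : (e.hom ≫ biprod.fst).app ⊤ ((biprod.inr ≫ e.inv).app ⊤ (sec b ⊤)) = 0 := by
      have h4 : (biprod.inr ≫ e.inv) ≫ e.hom ≫ biprod.fst = 0 := by simp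
      exact congr(($h4).app ⊤ (sec b ⊤))
    rw [h3] at h1
    rw [h5] at h2
    change 0 = r • sec a ⊤ at h2
    rw [← hc, hmul] at h2
    have h6 : r * c = 0 := h2.symm
    let _ := hfield.toField
    rcases mul_eq_zero.mp h6 with h7 | h7
    · rw [h1, h7, zero_smul]
    · exfalso
      obtain ⟨r', hr'⟩ := hgen ((biprod.inl ≫ e.inv).app ⊤ (one ⊤))
      have h8 := congrArg ((e.hom ≫ biprod.fst).app ⊤) hr'
      rw [happ] at h8
      have h9 : (e.hom ≫ biprod.fst).app ⊤ ((biprod.inl ≫ e.inv).app ⊤ (one ⊤)) = (one ⊤ : Γ(Coh.structureModule Y, ⊤)) := by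
        have h4 : (biprod.inl ≫ e.inv) ≫ e.hom ≫ biprod.fst = 𝟙 (Coh.structureModule Y) := by simp
        exact congr(($h4).app ⊤ (one ⊤))
      rw [h9] at h8
      change one ⊤ = r' • sec a ⊤ at h8
      rw [← hc, hmul, h7, mul_zero] at h8
      have h10 : (1 : Γ(Y, ⊤)) = 0 := h8
      exact one_ne_zero h10
  have hcu : IsUnit c := by
    let _ := hfield.toField
    rw [isUnit_iff_ne_zero]
    intro h7
    obtain ⟨r', hr'⟩ := hgen ((biprod.inl ≫ e.inv).app ⊤ (one ⊤))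
    have h8 := congrArg ((e.hom ≫ biprod.fst).app ⊤) hr'
    rw [happ] at h8
    have h9 : (e.hom ≫ biprod.fst).app ⊤ ((biprod.inl ≫ e.inv).app ⊤ (one ⊤)) = (one ⊤ : Γ(Coh.structureModule Y, ⊤)) := by
      have h4 : (biprod.inl ≫ e.inv) ≫ e.hom ≫ biprod.fst = 𝟙 (Coh.structureModule Y) := by simp
      exact congr(($h4).app ⊤ (one ⊤))
    rw [h9] at h8
    change one ⊤ = r' • sec a ⊤ at h8
    rw [← hc, hmul, h7, mul_zero] at h8
    have h10 : (1 : Γ(Y, ⊤)) = 0 := h8
    exact one_ne_zero h10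
  have hb0 : b = 0 := hom_ext_sec (by rw [hb]; rfl)
  have ha : IsIso a := by
    rw [isIso_iff_isGen, hc']
    exact (isGen_one ⊤).unit_smul hcu
  have hsq : u ≫ e.hom = (asIso a).hom ≫ biprod.inl := by
    apply biprod.hom_ext
    · rw [Category.assoc, Category.assoc, biprod.inl_fst, Category.comp_id]; rfl
    · rw [Category.assoc, Category.assoc, biprod.inl_snd, comp_zero]; exact hb0
  exact ⟨cokernel.mapIso u biprod.inl (asIso a) e hsq ≪≫ cokernelBiprodInlIso⟩

end Summand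

end K583.DblQ
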