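import Groth.Agent.Krr.H496.GenLocus
import Groth.Agent.Sga67.LocBasisOps
import Mathlib.AlgebraicGeometry.FunctionField

/-!
# Monomorphisms with the same image, maps between invertible modules

* `exists_factor`: a morphism factors through a monomorphism if it does so on local bases;
* `nonempty_iso_of_image`: two monomorphisms with the same local images have isomorphic sources;
* `mono_of_isGen`: on an integral scheme a morphism of invertible modules which is locally non-zero is mono;
* `eq_zero_or_forall`: on an integral scheme a morphism of invertible modules is zero or locally non-zero.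
-/

set_option autoImplicit false
universe u

open CategoryTheory CategoryTheory.Limits AlgebraicGeometry TopologicalSpace Opposite

namespace K583.RankOne

open Groth.Agent.Sga67.Sec Groth.Agent.Sga67.LocBasis Groth.Agent.Krr.H496.GenLocus

variable {X : Scheme.{u}}

/-- A morphism factors through a monomorphism if it does so on generators, locally. -/
theorem exists_factor {K L M : X.Modules} (t : L ⟶ M) [Mono t] (c : K ⟶ M)
    (H : ∀ x : X, ∃ (U : X.Opens) (k : Sec K U) (l : Sec L U), x ∈ U ∧ IsGen k ∧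
      appS t U l = appS c U k) : ∃ φ : K ⟶ L, φ ≫ t = c := by
  have h0 : c ≫ cokernel.π t = 0 := by
    apply hom_ext
    intro V s
    apply eq_of_locally
    intro x hx
    obtain ⟨U, k, l, hxU, hk, hl⟩ := H x
    refine ⟨V ⊓ U, inf_le_left, ⟨hx, hxU⟩, ?_⟩
    obtain ⟨a, ha⟩ := (hk.res (inf_le_right : V ⊓ U ≤ U)).exists_smul (res K inf_le_left s)
    rw [← appS_res, ← ha, map_smul, appS_comp, appS_res, ← hl, ← appS_res, ← appS_comp,
      cokernel.condition, appS_zero, smul_zero, appS_zero, map_zero]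
  exact ⟨Abelian.monoLift t c h0, Abelian.monoLift_comp t c h0⟩

/-- Two monomorphisms with the same image, locally, have isomorphic sources. -/
theorem nonempty_iso_of_image {K L M : X.Modules} (c : K ⟶ M) (t : L ⟶ M) [Mono c] [Mono t]
    (H : ∀ x : X, ∃ (U : X.Opens) (k : Sec K U) (l : Sec L U), x ∈ U ∧ IsGen k ∧ IsGen l ∧
      (∃ a : Γ(X, U), appS c U k = a • appS t U l) ∧ ∃ b : Γ(X, U), appS t U l = b • appS c U k) :
    Nonempty (K ≅ L) := by
  obtain ⟨φ, hφ⟩ := exists_factor t c (fun x => by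
    obtain ⟨U, k, l, hx, hk, -, ⟨a, ha⟩, -⟩ := H x
    exact ⟨U, k, a • l, hx, hk, by rw [map_smul, ha]⟩)
  obtain ⟨ψ, hψ⟩ := exists_factor c t (fun x => by
    obtain ⟨U, k, l, hx, -, hl, -, ⟨b, hb⟩⟩ := H x
    exact ⟨U, l, b • k, hx, hl, by rw [map_smul, hb]⟩)
  exact ⟨⟨φ, ψ, by rw [← cancel_mono c, Category.assoc, hψ, hφ, Category.id_comp],
    by rw [← cancel_mono t, Category.assoc, hφ, hψ, Category.id_comp]⟩⟩

theorem resO_injective [IsIntegral X] {U V : X.Opens} (h : V ≤ U) (hV : (V : Set X).Nonempty) :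
    Function.Injective (resO X h) := by
  have : Nonempty V := hV.to_subtype
  exact map_injective_of_isIntegral X (homOfLE h)

/-- A morphism of invertible modules on an integral scheme which is locally non-zero is mono. -/
theorem mono_of_isGen [IsIntegral X] {K M : X.Modules} (c : K ⟶ M)
    (H : ∀ x : X, ∃ (U : X.Opens) (k : Sec K U) (m : Sec M U) (a : Γ(X, U)), x ∈ U ∧ IsGen k ∧ IsGen m ∧
      appS c U k = a • m ∧ a ≠ 0) : Mono c := by
  apply mono_of_locally_injective
  intro x V hx
  obtain ⟨U, k, m, a, hxU, hk, hm, e, ha⟩ := H x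
  refine ⟨V ⊓ U, inf_le_left, ⟨hx, hxU⟩, fun s hs => ?_⟩
  have hne : ((V ⊓ U : X.Opens) : Set X).Nonempty := ⟨x, hx, hxU⟩
  have : Nonempty (V ⊓ U : X.Opens) := hne.to_subtype
  obtain ⟨b, rfl⟩ := (hk.res (inf_le_right : V ⊓ U ≤ U)).exists_smul s
  rw [map_smul, appS_res, e, res_smul, smul_smul] at hs
  have h1 : b * resO X inf_le_right a = 0 :=
    (hm.res (inf_le_right : V ⊓ U ≤ U)).smul_injective (by rw [hs, zero_smul])
  rcases mul_eq_zero.mp h1 with h | h
  · rw [h, zero_smul]
  · exact absurd (resO_injective inf_le_right hne (h.trans (map_zero _).symm)) ha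

/-- On an integral scheme a morphism of invertible modules is zero or locally non-zero. -/
theorem eq_zero_or_forall [IsIntegral X] {K M : X.Modules} (hK : IsInv K) (hM : IsInv M) (c : K ⟶ M) :
    c = 0 ∨ ∀ x : X, ∃ (U : X.Opens) (k : Sec K U) (m : Sec M U) (a : Γ(X, U)), x ∈ U ∧ IsGen k ∧
      IsGen m ∧ appS c U k = a • m ∧ a ≠ 0 := by
  have H : ∀ x : X, ∃ (U : X.Opens) (k : Sec K U) (m : Sec M U) (a : Γ(X, U)), x ∈ U ∧ IsGen k ∧
      IsGen m ∧ appS c U k = a • m := by
    intro x
    obtain ⟨U, k, hx, hk⟩ := hK x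
    obtain ⟨V, m, hx', hm⟩ := hM x
    obtain ⟨a, ha⟩ := (hm.res (inf_le_right : U ⊓ V ≤ V)).exists_smul
      (appS c (U ⊓ V) (res K inf_le_left k))
    exact ⟨U ⊓ V, _, _, a, ⟨hx, hx'⟩, hk.res inf_le_left, hm.res inf_le_right, ha.symm⟩
  by_cases h : ∃ x : X, ∃ (U : X.Opens) (k : Sec K U), x ∈ U ∧ IsGen k ∧ appS c U k = 0
  · left
    obtain ⟨x, U, k, hx, hk, hc⟩ := h
    apply hom_ext
    intro V s
    apply eq_of_locally
    intro y hy
    obtain ⟨W, k', m, a, hyW, hk', hm, e⟩ := H y
    refine ⟨V ⊓ W, inf_le_left, ⟨hy, hyW⟩, ?_⟩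
    have ha : a = 0 := by
      have hne : ((W ⊓ U : X.Opens) : Set X).Nonempty := by
        have := nonempty_preirreducible_inter (X := X) W.isOpen U.isOpen ⟨y, hyW⟩ ⟨x, hx⟩
        exact this
      apply resO_injective (inf_le_left : W ⊓ U ≤ W) hne
      rw [map_zero]
      apply (hm.res (inf_le_left : W ⊓ U ≤ W)).smul_injective
      obtain ⟨b, hb⟩ := (hk.res (inf_le_right : W ⊓ U ≤ U)).exists_smul (res K inf_le_left k')
      rw [zero_smul, ← res_smul, ← e, ← appS_res, ← hb, map_smul, appS_res, hc, map_zero, smul_zero]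
    obtain ⟨b, hb⟩ := (hk'.res (inf_le_right : V ⊓ W ≤ W)).exists_smul (res K inf_le_left s)
    rw [← appS_res, ← hb, map_smul, appS_res, e, ha, zero_smul, map_zero, smul_zero, appS_zero, map_zero]
  · right
    push Not at h
    intro x
    obtain ⟨U, k, m, a, hx, hk, hm, e⟩ := H x
    refine ⟨U, k, m, a, hx, hk, hm, e, fun ha => h x U k hx hk ?_⟩
    rw [e, ha, zero_smul]

end K583.RankOne
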